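import Cfsg.Agent.H873.Tits.Stmts

/-!
# S3414 [E4] (helper592): permutation groups of degree 5, 7, 13
-/

set_option autoImplicit false

namespace Cfsg.Agent.H592.E4

open Cfsg.Agent.H873.Tits Equiv Equiv.Perm Subgroup MulAction

universe u v

section Gen

variable {G : Type u} [Group G]

theorem card_mul_rel {K L : Subgroup G} (h : K ≤ L) : Nat.card K * K.relIndex L = Nat.card L := by
  rw [← relIndex_bot_left K, ← relIndex_bot_left L]
  exact relIndex_mul_relIndex ⊥ K L bot_le h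

theorem rel_stab {X : Type v} [MulAction G X] (K : Subgroup G) (b : X) :
    (K ⊓ stabilizer G b).relIndex K = (orbit K b).ncard := by
  rw [inf_comm, inf_relIndex_right]
  have h : (stabilizer G b).subgroupOf K = stabilizer K b := rfl
  rw [relIndex, h, index_stabilizer]

theorem card_orb {X : Type v} [MulAction G X] (K : Subgroup G) (b : X) :
    Nat.card K = (orbit K b).ncard * Nat.card ↥(K ⊓ stabilizer G b) := by
  rw [← card_mul_rel (inf_le_left : K ⊓ stabilizer G b ≤ K), rel_stab, mul_comm]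

end Gen

variable {Ω : Type v}

theorem twoTr_trans {L : Subgroup (Perm Ω)} (h : TwoTr L) (a b : Ω) : ∃ g ∈ L, g a = b := by
  by_cases hab : a = b
  · exact ⟨1, one_mem _, by simp [hab]⟩
  · obtain ⟨g, hg, h1, -⟩ := h a b b a hab (Ne.symm hab)
    exact ⟨g, hg, h1⟩

theorem twoTr_stab {L : Subgroup (Perm Ω)} (h : TwoTr L) {a b c : Ω} (hb : a ≠ b) (hc : a ≠ c) :
    ∃ g ∈ Stb L a, g b = c := by
  obtain ⟨g, hg, h1, h2⟩ := h a b a c hb hc
  exact ⟨g, ⟨hg, h1⟩, h2⟩

theorem card_trans [Finite Ω] {L : Subgroup (Perm Ω)} (h : ∀ a b : Ω, ∃ g ∈ L, g a = b) (a : Ω) :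
    Nat.card L = Nat.card Ω * Nat.card ↥(Stb L a) := by
  rw [card_orb L a, Stb]
  congr 1
  have : orbit L a = Set.univ := by
    ext b
    simp only [Set.mem_univ, iff_true]
    obtain ⟨g, hg, hb⟩ := h a b
    exact ⟨⟨g, hg⟩, hb⟩
  rw [this, Set.ncard_univ]

/-- order of a 2-transitive group -/
theorem card_twoTr [Finite Ω] {L : Subgroup (Perm Ω)} (h : TwoTr L) {a b : Ω} (hab : a ≠ b) :
    Nat.card L = Nat.card Ω * ((Nat.card Ω - 1) * Nat.card ↥(Stb L a ⊓ Stb L b)) := by
  rw [card_trans (twoTr_trans h) a, card_orb (Stb L a) b]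
  congr 2
  · have : orbit (Stb L a) b = {a}ᶜ := by
      ext c
      simp only [Set.mem_compl_iff, Set.mem_singleton_iff]
      constructor
      · rintro ⟨g, rfl⟩ hc
        have h1 : (g : Perm Ω) a = a := g.2.2
        have h2 : (g : Perm Ω) b = a := hc
        exact hab ((g : Perm Ω).injective (h1.trans h2.symm))
      · intro hc
        obtain ⟨g, hg, hb⟩ := twoTr_stab h hab (Ne.symm hc)
        exact ⟨⟨g, hg⟩, hb⟩
    rw [this, Set.ncard_compl, Set.ncard_singleton]
  · congr 1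
    have : Stb L a ⊓ stabilizer (Perm Ω) b = Stb L a ⊓ Stb L b := by
      apply le_antisymm
      · exact le_inf inf_le_left (le_inf (inf_le_left.trans inf_le_left) inf_le_right)
      · exact le_inf inf_le_left (inf_le_right.trans inf_le_right)
    rw [this]


/-! ### degree 5 -/

theorem index_normalCore_le {G : Type u} [Group G] [Finite G] (H : Subgroup G) :
    H.normalCore.index ≤ (H.index).factorial := by
  rw [normalCore_eq_ker, index_ker]
  refine (Subgroup.card_le_card_group _).trans ?_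
  rw [Nat.card_perm, index]

/-- a transitive group of order 20 and degree 5 is not contained in `A_5` -/
theorem not_le_alt [Fintype Ω] [DecidableEq Ω] (hΩ : Nat.card Ω = 5) {M : Subgroup (Perm Ω)} (hM : Nat.card M = 20) :
    ¬ M ≤ alternatingGroup Ω := by
  intro h
  have : Nontrivial Ω := Finite.one_lt_card_iff_nontrivial.1 (by omega)
  have h1 : Nat.card (alternatingGroup Ω) = 60 := by
    have h2 := two_mul_nat_card_alternatingGroup (α := Ω)
    rw [Nat.card_perm, hΩ] at h2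
    have h3 : Nat.factorial 5 = 120 := rfl
    omega
  set M' : Subgroup (alternatingGroup Ω) := M.subgroupOf (alternatingGroup Ω) with hM'
  have h2 : Nat.card M' = 20 := by
    rw [← hM]
    exact Nat.card_congr (subgroupOfEquivOfLe h).toEquiv
  have h3 : M'.index = 3 := by
    have h4 := M'.card_mul_index
    rw [h1, h2] at h4
    omega
  have h4 := index_normalCore_le M'
  rw [h3] at h4
  have h5 : IsSimpleGroup (alternatingGroup Ω) := alternatingGroup.isSimpleGroup (by omega)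
  have h6 : M'.normalCore = ⊥ ∨ M'.normalCore = ⊤ := (normalCore_normal M').eq_bot_or_eq_top
  rcases h6 with h6 | h6
  · rw [h6, index_bot, h1] at h4
    exact absurd h4 (by decide)
  · have h7 : M' = ⊤ := by
      rw [eq_top_iff, ← h6]
      exact normalCore_le M'
    rw [h7, Nat.card_congr (Subgroup.topEquiv).toEquiv, h1] at h2
    omega

/-- a transitive group of order 20 and degree 5 contains an odd permutation fixing `x` -/
theorem odd_stab [Fintype Ω] [DecidableEq Ω] (hΩ : Nat.card Ω = 5) {M : Subgroup (Perm Ω)} (hM : Nat.card M = 20)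
    (ht : ∀ a b : Ω, ∃ g ∈ M, g a = b) (x : Ω) : ∃ g ∈ Stb M x, sign g ≠ 1 := by
  by_contra hcon
  push Not at hcon
  have : Nontrivial Ω := Finite.one_lt_card_iff_nontrivial.1 (by omega)
  have h1 : Nat.card ↥(Stb M x) = 4 := by
    have := card_trans ht x
    rw [hM, hΩ] at this
    omega
  have h2 : Stb M x ≤ M ⊓ alternatingGroup Ω := fun g hg => ⟨hg.1, hcon g hg⟩
  have h3 := card_dvd_of_le h2
  have h4 : (M ⊓ alternatingGroup Ω).relIndex M ∣ 2 := by
    rw [inf_comm, inf_relIndex_right, ← alternatingGroup.index_eq_two (α := Ω)]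
    exact relIndex_dvd_index_of_normal _ _
  have h5 := card_mul_rel (inf_le_left : M ⊓ alternatingGroup Ω ≤ M)
  rw [hM] at h5
  rw [h1] at h3
  have h6 : (M ⊓ alternatingGroup Ω).relIndex M = 1 := by
    rcases (Nat.dvd_prime Nat.prime_two).1 h4 with h | h
    · exact h
    · rw [h] at h5
      omega
  rw [relIndex_eq_one] at h6
  exact not_le_alt hΩ hM (h6.trans inf_le_right)

/-- a normal subgroup of the stabilizer `S_4` of a point in `S_5` whose order is divisible by 3 and which contains an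
odd permutation is everything -/
theorem full_stab [Fintype Ω] [DecidableEq Ω] (hΩ : Nat.card Ω = 5) {N : Subgroup (Perm Ω)} {x : Ω}
    (hN : N ≤ stabilizer (Perm Ω) x) (hn : ∀ g : Perm Ω, g x = x → ∀ a ∈ N, g * a * g⁻¹ ∈ N) (h3 : 3 ∣ Nat.card N)
    (hodd : ∃ g ∈ N, sign g ≠ 1) : stabilizer (Perm Ω) x ≤ N := by
  have : Fact (Nat.Prime 3) := ⟨Nat.prime_three⟩
  set N' : Subgroup (Perm {c : Ω // c ≠ x}) := N.comap ofSubtype with hN'
  have hX : Fintype.card {c : Ω // c ≠ x} = 4 := by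
    rw [Nat.card_eq_fintype_card] at hΩ
    have := Fintype.card_subtype_compl (fun c : Ω => c = x)
    simp only [Fintype.card_unique] at this
    rw [this, hΩ]
  have : Nontrivial {c : Ω // c ≠ x} := Fintype.one_lt_card_iff_nontrivial.1 (by omega)
  have hof : ∀ g : Perm Ω, g x = x → ∃ g' : Perm {c : Ω // c ≠ x}, ofSubtype g' = g := by
    intro g hg
    have h1 : ∀ c, g c ≠ x ↔ c ≠ x := by
      intro c
      rw [not_iff_not]
      constructor
      · intro h
        exact g.injective (h.trans hg.symm)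
      · rintro rfl
        exact hg
    exact ⟨g.subtypePerm h1, ofSubtype_subtypePerm h1 fun c hc h => by
      rw [h] at hc
      exact hc hg⟩
  have hfix : ∀ g' : Perm {c : Ω // c ≠ x}, (ofSubtype g') x = x := fun g' =>
    ofSubtype_apply_of_not_mem g' (by simp)
  have hnorm : ∀ g a, a ∈ N' → g * a * g⁻¹ ∈ N' := by
    intro g a ha
    rw [hN', mem_comap] at ha ⊢
    rw [map_mul, map_mul, map_inv]
    exact hn _ (hfix g) _ ha
  obtain ⟨ρ, hρ⟩ := exists_prime_orderOf_dvd_card' 3 h3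
  obtain ⟨ρ', hρ'⟩ := hof (ρ : Perm Ω) (hN ρ.2)
  have h4 : orderOf ρ' = 3 := by
    rw [← orderOf_injective (ofSubtype (p := fun c : Ω => c ≠ x)) ofSubtype_injective, hρ', orderOf_coe, hρ]
  have h5 : ρ'.IsCycle := isCycle_of_prime_order' (by rw [h4]; exact Nat.prime_three) (by rw [hX, h4]; norm_num)
  have h6 : ρ'.IsThreeCycle := by
    rw [← card_support_eq_three_iff, ← h5.orderOf, h4]
  have h7 : ρ' ∈ N' := by
    rw [hN', mem_comap, hρ']
    exact ρ.2
  have h8 : alternatingGroup {c : Ω // c ≠ x} ≤ N' := by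
    rw [← closure_three_cycles_eq_alternating, closure_le]
    intro σ hσ
    have h9 : IsConj ρ' σ := by
      rw [isConj_iff_cycleType_eq]
      exact h6.cycleType.trans (IsThreeCycle.cycleType hσ).symm
    obtain ⟨c, hc⟩ := isConj_iff.1 h9
    rw [← hc]
    exact hnorm c ρ' h7
  have h9 : N' = ⊤ := by
    have h10 : N'.index ∣ 2 := by
      rw [← alternatingGroup.index_eq_two (α := {c : Ω // c ≠ x})]
      exact index_dvd_of_le h8
    rcases (Nat.dvd_prime Nat.prime_two).1 h10 with h | h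
    · exact index_eq_one.1 h
    · exfalso
      have h11 := eq_alternatingGroup_of_index_eq_two h
      obtain ⟨g, hg, hs⟩ := hodd
      obtain ⟨g', rfl⟩ := hof g (hN hg)
      apply hs
      have h12 : g' ∈ N' := hg
      rw [h11, mem_alternatingGroup] at h12
      rw [sign_ofSubtype, h12]
  intro g hg
  obtain ⟨g', rfl⟩ := hof g hg
  have : g' ∈ N' := by rw [h9]; trivial
  exact this

/-- two permutations fixing `x, w` with commutator of order 3 -/
theorem exists_comm [Fintype Ω] [DecidableEq Ω] (hΩ : Nat.card Ω = 5) (x w : Ω) :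
    ∃ α β : Perm Ω, α x = x ∧ α w = w ∧ β x = x ∧ β w = w ∧ orderOf (α * β * α⁻¹ * β⁻¹) = 3 := by
  have h1 : 2 < ({x, w}ᶜ : Finset Ω).card := by
    rw [Finset.card_compl, ← Nat.card_eq_fintype_card, hΩ]
    have := Finset.card_le_two (a := x) (b := w)
    omega
  obtain ⟨c, d, e, hc, hd, he, hcd, hce, hde⟩ := Finset.two_lt_card_iff.1 h1
  simp only [Finset.mem_compl, Finset.mem_insert, Finset.mem_singleton, not_or] at hc hd he
  refine ⟨swap c d, swap c e, swap_apply_of_ne_of_ne (Ne.symm hc.1) (Ne.symm hd.1), swap_apply_of_ne_of_ne (Ne.symm hc.2) (Ne.symm hd.2),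
    swap_apply_of_ne_of_ne (Ne.symm hc.1) (Ne.symm he.1), swap_apply_of_ne_of_ne (Ne.symm hc.2) (Ne.symm he.2), ?_⟩
  have h2 : (swap c d * swap c e).IsThreeCycle := isThreeCycle_swap_mul_swap_same hcd hce hde
  have h3 : swap c d * swap c e * (swap c d)⁻¹ * (swap c e)⁻¹ = (swap c d * swap c e) * (swap c d * swap c e) := by
    rw [swap_inv, swap_inv, mul_assoc]
  rw [h3, ← h2.isThreeCycle_sq.orderOf]

/-! ### regular subgroups of prime order -/

theorem aut_bound [Finite Ω] {W : Subgroup (Perm Ω)} {l : ℕ} (hl : l.Prime) (hW : Nat.card W = l)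
    (htr : ∀ a b : Ω, ∃ w ∈ W, w a = b) (a : Ω) :
    Nat.card ↥(normalizer (W : Set (Perm Ω)) ⊓ stabilizer (Perm Ω) a) ∣ l - 1 := by
  have : Fact l.Prime := ⟨hl⟩
  have hcyc : IsCyclic W := isCyclic_of_prime_card hW
  have h1 : Nat.card (MulAut W) = l - 1 := by
    rw [IsCyclic.card_mulAut, hW, Nat.totient_prime hl]
  rw [← h1]
  refine card_dvd_of_injective (W.normalizerMonoidHom.comp (inclusion inf_le_left)) ?_
  rw [injective_iff_map_eq_one]
  rintro ⟨g, hg1, hg2⟩ h
  have h2 : ∀ w ∈ W, g * w * g⁻¹ = w := by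
    intro w hw
    have := congrArg (fun f : MulAut W => ((f ⟨w, hw⟩ : W) : Perm Ω)) h
    simpa using this
  have h3 : g = 1 := by
    ext b
    obtain ⟨w, hw, rfl⟩ := htr a b
    have h4 := h2 w hw
    have h5 : g * w = w * g := by
      rw [mul_inv_eq_iff_eq_mul] at h4
      exact h4
    have h6 : g (w a) = w (g a) := by
      rw [← Perm.mul_apply, h5, Perm.mul_apply]
    have h7 : g a = a := hg2
    rw [h6, h7]
    rfl
  exact Subtype.ext h3

/-- degree 13, affine -/
theorem aff13 (hΩ : Nat.card Ω = 13) {L L' : Subgroup (Perm Ω)} (hL : TwoTr L) (hL' : TwoTr L') (hle : L' ≤ L)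
    (hA : Aff L) : L'.relIndex L = 1 := by
  have hfin : Finite Ω := Nat.finite_of_card_ne_zero (by omega)
  obtain ⟨a, b, hab⟩ : ∃ a b : Ω, a ≠ b := by
    have : Nontrivial Ω := Finite.one_lt_card_iff_nontrivial.1 (by omega)
    exact exists_pair_ne Ω
  obtain ⟨W, hWL, hWn, -, hWt, hWs⟩ := hA
  have htr : ∀ a b : Ω, ∃ w ∈ W, w a = b := by
    intro a b
    obtain ⟨w, hw⟩ := MulAction.exists_smul_eq W a b
    exact ⟨w, w.2, hw⟩
  have hW : Nat.card W = 13 := by
    have h1 := card_trans htr a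
    have h2 : Stb W a = ⊥ := by
      rw [eq_bot_iff]
      rintro g ⟨hg1, hg2⟩
      have h3 : (⟨g, hg1⟩ : W) ∈ stabilizer W a := hg2
      rw [hWs a, mem_bot] at h3
      exact congrArg Subtype.val h3
    rw [h2, hΩ, Subgroup.card_bot, mul_one] at h1
    omega
  have h1 := aut_bound (by norm_num) hW htr a
  have h2 : Stb L a ≤ normalizer (W : Set (Perm Ω)) ⊓ stabilizer (Perm Ω) a := by
    refine le_inf (inf_le_left.trans ?_) inf_le_right
    rwa [normal_subgroupOf_iff_le_normalizer hWL] at hWn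
  have h3 : Nat.card ↥(Stb L a) ∣ 12 := (card_dvd_of_le h2).trans h1
  have h4 := card_trans (twoTr_trans hL) a
  have h5 := card_twoTr hL' hab
  have h6 := card_mul_rel hle
  have h7 := Nat.le_of_dvd (by norm_num) h3
  rw [hΩ] at h4 h5
  have h8 : 0 < Nat.card ↥(Stb L' a ⊓ Stb L' b) := Nat.card_pos
  have h9 : 156 ≤ Nat.card L' := by omega
  have h10 : Nat.card L ≤ 156 := by omega
  have h11 : 0 < L'.relIndex L := by
    rcases Nat.eq_zero_or_pos (L'.relIndex L) with h | h
    · rw [h, mul_zero] at h6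
      have : 0 < Nat.card L := Nat.card_pos
      omega
    · exact h
  by_contra hne
  have h12 : 2 ≤ L'.relIndex L := by omega
  have h13 : Nat.card L' * 2 ≤ Nat.card L' * L'.relIndex L := Nat.mul_le_mul_left _ h12
  omega

/-! ### degree 6 -/

section Six

variable {A : Type u} [Group A] [Finite A] {X : Type v} [MulAction A X] [IsPretransitive A X]

omit [Finite A] in
theorem orb_two (hX : Nat.card X = 6) (Q : Subgroup A) [Q.Normal] (hQ : IsPGroup 2 Q)
    (hne : ∃ u ∈ Q, ∃ x : X, u • x ≠ x) (b : X) : (orbit Q b).ncard = 2 := by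
  have hfin : Finite X := Nat.finite_of_card_ne_zero (by omega)
  have : Fact (Nat.Prime 2) := ⟨Nat.prime_two⟩
  have h1 : (orbit Q b).ncard ∣ 6 := by
    rw [← hX]
    exact (IsBlock.orbit_of_normal (G := A) (N := Q) b).ncard_dvd_card (nonempty_orbit b)
  obtain ⟨k, hk⟩ : ∃ n : ℕ, (orbit Q b).ncard = 2 ^ n := by
    obtain ⟨n, hn⟩ := hQ.card_orbit b
    exact ⟨n, hn⟩
  have h2 : k ≠ 0 := by
    rintro rfl
    rw [pow_zero, Set.ncard_eq_one] at hk
    obtain ⟨c, hc⟩ := hk
    obtain ⟨u, hu, x, hx⟩ := hne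
    apply hx
    obtain ⟨g, rfl⟩ := MulAction.exists_smul_eq A b x
    have h3 : g⁻¹ * u * g ∈ Q := by
      have := (inferInstance : Q.Normal).conj_mem u hu g⁻¹
      rwa [inv_inv] at this
    have h4 : (g⁻¹ * u * g) • b = b := by
      have h5 : (g⁻¹ * u * g) • b ∈ orbit Q b := ⟨⟨_, h3⟩, rfl⟩
      have h6 : b ∈ orbit Q b := mem_orbit_self b
      rw [hc, Set.mem_singleton_iff] at h5 h6
      rw [h5, h6]
    rw [mul_smul, mul_smul, inv_smul_eq_iff] at h4
    exact h4
  have h3 : k ≤ 1 := by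
    by_contra hcon
    have h4 : 2 ^ 2 ∣ 2 ^ k := pow_dvd_pow 2 (by omega)
    rw [hk] at h1
    have := h4.trans h1
    omega
  have : k = 1 := by omega
  rw [hk, this, pow_one]

omit [Finite A] [IsPretransitive A X] in
theorem fix_orb (Q : Subgroup A) [Q.Normal] (h2 : ∀ b : X, (orbit Q b).ncard = 2) {g : A} {b : X} (hg : g • b = b)
    {u : A} (hu : u ∈ Q) : g • u • b = u • b := by
  by_cases hb : u • b = b
  · rw [hb, hg]
  have hsub : ({b, u • b} : Set X) = orbit Q b := by
    have hfin : (orbit Q b).Finite := Set.finite_of_ncard_ne_zero (by rw [h2]; omega)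
    refine Set.eq_of_subset_of_ncard_le ?_ ?_ hfin
    · rintro c (rfl | rfl)
      · exact mem_orbit_self c
      · exact ⟨⟨u, hu⟩, rfl⟩
    · rw [h2, Set.ncard_pair (Ne.symm hb)]
  have h3 : g • u • b ∈ orbit Q b := by
    refine ⟨⟨g * u * g⁻¹, (inferInstance : Q.Normal).conj_mem u hu g⟩, ?_⟩
    change (g * u * g⁻¹) • b = g • u • b
    rw [mul_smul, mul_smul]
    congr 2
    rw [inv_smul_eq_iff, hg]
  rw [← hsub] at h3
  rcases h3 with h3 | h3
  · exfalso
    apply hb
    have : g • u • b = g • b := by rw [h3, hg]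
    exact smul_left_cancel g this
  · exact h3

omit [Finite A] [IsPretransitive A X] in
theorem even_fix [Finite X] (Q : Subgroup A) [Q.Normal] (hQ : IsPGroup 2 Q) (h2 : ∀ b : X, (orbit Q b).ncard = 2) (g : A) :
    2 ∣ Nat.card {x : X // g • x = x} := by
  have : Fact (Nat.Prime 2) := ⟨Nat.prime_two⟩
  let act : MulAction Q {x : X // g • x = x} :=
    { smul := fun u x => ⟨(u : A) • x.1, fix_orb Q h2 x.2 u.2⟩
      one_smul := fun x => Subtype.ext (one_smul A x.1)
      mul_smul := fun u v x => Subtype.ext (mul_smul (u : A) (v : A) x.1) }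
  have h1 := hQ.card_modEq_card_fixedPoints {x : X // g • x = x}
  have h3 : Nat.card (fixedPoints Q {x : X // g • x = x}) = 0 := by
    rw [Nat.card_eq_zero]
    left
    constructor
    rintro ⟨⟨x, hx⟩, hfix⟩
    have h4 : orbit Q x = {x} := by
      apply Set.eq_singleton_iff_unique_mem.2
      refine ⟨mem_orbit_self x, ?_⟩
      rintro _ ⟨u, rfl⟩
      exact congrArg Subtype.val (hfix u)
    have h5 := h2 x
    rw [h4, Set.ncard_singleton] at h5
    omega
  rw [h3] at h1
  exact (Nat.modEq_zero_iff_dvd.1 h1)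

theorem two_pow_stab (hX : Nat.card X = 6) (hf : ∀ g : A, (∀ x : X, g • x = x) → g = 1) (Q : Subgroup A) [Q.Normal]
    (hQ : IsPGroup 2 Q) (hne : Q ≠ ⊥) (b : X) : ∃ k, Nat.card (stabilizer A b) = 2 ^ k := by
  have hfin : Finite X := Nat.finite_of_card_ne_zero (by omega)
  have h2 : ∀ b : X, (orbit Q b).ncard = 2 := by
    apply orb_two hX Q hQ
    by_contra hcon
    push Not at hcon
    apply hne
    rw [eq_bot_iff]
    intro u hu
    exact hf u (hcon u hu)
  refine ⟨_, Nat.eq_prime_pow_of_unique_prime_dvd (Nat.card_pos (α := stabilizer A b)).ne' ?_⟩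
  intro r hr hrd
  by_contra hr2
  have : Fact r.Prime := ⟨hr⟩
  obtain ⟨g, hg⟩ := exists_prime_orderOf_dvd_card' r hrd
  have hg' : orderOf (g : A) = r := by rw [← hg]; exact orderOf_coe g
  have hgb : (g : A) • b = b := g.2
  have hP : IsPGroup r (zpowers (g : A)) := by
    apply IsPGroup.of_card (n := 1)
    rw [Nat.card_zpowers, hg', pow_one]
  have h3 := hP.card_modEq_card_fixedPoints X
  have h4 : Nat.card (fixedPoints (zpowers (g : A)) X) = Nat.card {x : X // (g : A) • x = x} := by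
    apply Nat.card_congr
    refine Equiv.subtypeEquivRight fun x => ?_
    constructor
    · intro h
      exact h ⟨g, mem_zpowers _⟩
    · rintro h ⟨_, n, rfl⟩
      have : (g : A) ∈ stabilizer A x := h
      exact zpow_mem this n
  have h5 := even_fix Q hQ h2 (g : A)
  rw [h4, hX] at h3
  have h6 : 0 < Nat.card {x : X // (g : A) • x = x} := by
    have : Nonempty {x : X // (g : A) • x = x} := ⟨⟨b, hgb⟩⟩
    exact Nat.card_pos
  have h7 : Nat.card {x : X // (g : A) • x = x} ≤ 6 := by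
    rw [← hX]
    exact Nat.card_le_card_of_injective _ Subtype.val_injective
  have h8 : r ∣ 6 - Nat.card {x : X // (g : A) • x = x} := (Nat.modEq_iff_dvd' h7).1 h3.symm
  have h9 : Nat.card {x : X // (g : A) • x = x} = 6 := by
    obtain ⟨m, hm⟩ := h5
    have hr3 : ¬ r ∣ 2 := fun h => hr2 ((Nat.prime_dvd_prime_iff_eq hr Nat.prime_two).1 h)
    have hr4 : ¬ r ∣ 4 := fun h => hr3 (hr.dvd_of_dvd_pow (show r ∣ 2 ^ 2 by simpa using h))
    rw [hm] at h8 h6 h7 ⊢
    have : m ≤ 3 := by omega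
    interval_cases m
    · omega
    · exact absurd h8 hr4
    · exact absurd h8 hr3
    · rfl
  have h10 : (g : A) = 1 := by
    apply hf
    intro x
    have h11 : Function.Bijective (Subtype.val : {x : X // (g : A) • x = x} → X) := by
      rw [Nat.bijective_iff_injective_and_card]
      exact ⟨Subtype.val_injective, by rw [h9, hX]⟩
    obtain ⟨y, rfl⟩ := h11.2 x
    exact y.2
  rw [h10, orderOf_one] at hg'
  exact hr.one_lt.ne hg'

end Six

/-! ### degree 7 -/

theorem factorial_seven : Nat.factorial 7 = 5040 := rfl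

theorem card_perm_seven (hΩ : Nat.card Ω = 7) : Nat.card (Perm Ω) = 5040 := by
  have : Finite Ω := Nat.finite_of_card_ne_zero (by omega)
  rw [Nat.card_perm, hΩ]
  rfl

theorem two_pow_seven (hΩ : Nat.card Ω = 7) {L : Subgroup (Perm Ω)} (hL : TwoTr L) {a b : Ω} (hab : a ≠ b)
    {Q : Subgroup (Perm Ω)} (hne : Q ≠ ⊥) (hQ : Q ≤ Stb L a) (hQn : (Q.subgroupOf (Stb L a)).Normal)
    (hQ2 : IsPGroup 2 Q) : ∃ k ≤ 3, Nat.card ↥(Stb L a ⊓ Stb L b) = 2 ^ k := by
  have hfin : Finite Ω := Nat.finite_of_card_ne_zero (by omega)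
  let act : MulAction (Stb L a) {c : Ω // c ≠ a} :=
    { smul := fun g c => ⟨(g : Perm Ω) c.1, fun h => c.2 ((g : Perm Ω).injective (h.trans
        (show (g : Perm Ω) a = a from g.2.2).symm))⟩
      one_smul := fun c => Subtype.ext rfl
      mul_smul := fun g h c => Subtype.ext rfl }
  have hval : ∀ (g : Stb L a) (c : {c : Ω // c ≠ a}), ((g • c : {c : Ω // c ≠ a}) : Ω) = (g : Perm Ω) c := fun g c => rfl
  have htr : IsPretransitive (Stb L a) {c : Ω // c ≠ a} := by
    constructor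
    rintro ⟨c, hc⟩ ⟨d, hd⟩
    obtain ⟨g, hg, h⟩ := twoTr_stab hL (Ne.symm hc) (Ne.symm hd)
    exact ⟨⟨g, hg⟩, Subtype.ext h⟩
  have hX : Nat.card {c : Ω // c ≠ a} = 6 := by
    have h1 : Nat.card {c : Ω // c ≠ a} = ({a}ᶜ : Set Ω).ncard := rfl
    rw [h1, Set.ncard_compl, Set.ncard_singleton, hΩ]
  have hf : ∀ g : Stb L a, (∀ x : {c : Ω // c ≠ a}, g • x = x) → g = 1 := by
    intro g hg
    apply Subtype.ext
    ext c
    by_cases hc : c = a
    · rw [hc]
      exact g.2.2
    · exact congrArg Subtype.val (hg ⟨c, hc⟩)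
  have hQ2' : IsPGroup 2 (Q.subgroupOf (Stb L a)) := by
    exact hQ2.of_equiv (subgroupOfEquivOfLe hQ).symm
  have hne' : Q.subgroupOf (Stb L a) ≠ ⊥ := by
    intro h
    rw [subgroupOf_eq_bot] at h
    apply hne
    rw [eq_bot_iff, ← h.eq_bot]
    exact le_inf le_rfl hQ
  obtain ⟨k, hk⟩ := two_pow_stab hX hf (Q.subgroupOf (Stb L a)) hQ2' hne' ⟨b, Ne.symm hab⟩
  have h1 : Nat.card (stabilizer (Stb L a) (⟨b, Ne.symm hab⟩ : {c : Ω // c ≠ a})) = Nat.card ↥(Stb L a ⊓ Stb L b) := by
    have h2 : stabilizer (Stb L a) (⟨b, Ne.symm hab⟩ : {c : Ω // c ≠ a}) = (Stb L b).subgroupOf (Stb L a) := by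
      ext g
      rw [mem_subgroupOf, mem_stabilizer_iff, Subtype.ext_iff, hval]
      constructor
      · intro h
        exact ⟨g.2.1, h⟩
      · intro h
        exact h.2
    rw [h2, inf_comm, ← subgroupOf_map_subtype]
    exact (Nat.card_congr (equivMapOfInjective _ _ (Stb L a).subtype_injective).toEquiv)
  rw [h1] at hk
  refine ⟨k, ?_, hk⟩
  have h2 := card_twoTr hL hab
  have h3 := card_subgroup_dvd_card L
  rw [card_perm_seven hΩ, h2, hΩ, hk] at h3
  by_contra hcon
  have h4 : 2 ^ 4 ∣ 2 ^ k := pow_dvd_pow 2 (by omega)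
  have h5 : 7 * ((7 - 1) * 2 ^ 4) ∣ 5040 := (mul_dvd_mul_left 7 (mul_dvd_mul_left (7 - 1) h4)).trans h3
  exact absurd h5 (by decide)

theorem swap_mem [DecidableEq Ω] (hΩ : Nat.card Ω = 7) {L : Subgroup (Perm Ω)} (h16 : 16 ∣ Nat.card L) :
    ∃ τ ∈ L, τ.IsSwap := by
  have hfin : Finite Ω := Nat.finite_of_card_ne_zero (by omega)
  have : Fact (Nat.Prime 2) := ⟨Nat.prime_two⟩
  obtain ⟨K, hK⟩ := Sylow.exists_subgroup_card_pow_prime 2 (n := 4) (G := L) (by simpa using h16)
  set K' : Subgroup (Perm Ω) := K.map L.subtype with hK'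
  have h1 : Nat.card K' = 2 ^ 4 := by
    rw [← hK]
    exact (Nat.card_congr (equivMapOfInjective _ _ L.subtype_injective).toEquiv).symm
  have h2 : K'.index = 315 := by
    have := K'.card_mul_index
    rw [h1, card_perm_seven hΩ] at this
    omega
  let S : Sylow 2 (Perm Ω) := (IsPGroup.of_card h1).toSylow (by rw [h2]; omega)
  obtain ⟨a, b, hab⟩ : ∃ a b : Ω, a ≠ b := by
    have : Nontrivial Ω := Finite.one_lt_card_iff_nontrivial.1 (by omega)
    exact exists_pair_ne Ω
  have h3 : IsPGroup 2 (zpowers (swap a b)) := by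
    apply IsPGroup.of_card (n := 1)
    rw [Nat.card_zpowers, pow_one]
    exact orderOf_eq_prime (by rw [pow_two, swap_mul_self]) (by
      intro h
      rw [swap_eq_one_iff] at h
      exact hab h)
  obtain ⟨S', hS'⟩ := h3.exists_le_sylow
  obtain ⟨g, hg⟩ := MulAction.exists_smul_eq (Perm Ω) S S'
  have h4 : swap a b ∈ S' := hS' (mem_zpowers _)
  rw [← hg] at h4
  have h5 : g⁻¹ * swap a b * g ∈ K' := by
    have h6 : swap a b ∈ ((g • S : Sylow 2 (Perm Ω)) : Subgroup (Perm Ω)) := h4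
    rw [Sylow.coe_subgroup_smul] at h6
    rw [mem_pointwise_smul_iff_inv_smul_mem] at h6
    have h7 : ((S : Subgroup (Perm Ω))) = K' := rfl
    rw [h7] at h6
    simpa [MulAut.smul_def] using h6
  refine ⟨g⁻¹ * swap a b * g, ?_, ?_⟩
  · obtain ⟨l, -, hl⟩ := h5
    rw [← hl]
    exact l.2
  · refine ⟨g⁻¹ a, g⁻¹ b, fun h => hab (g⁻¹.injective h), ?_⟩
    rw [swap_apply_apply, inv_inv]

theorem not_sixteen [Finite Ω] (hΩ : Nat.card Ω = 7) {L : Subgroup (Perm Ω)} (hL : TwoTr L) (h16 : 16 ∣ Nat.card L)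
    (hlt : Nat.card L < 5040) : False := by
  classical
  obtain ⟨τ, hτ, hs⟩ := swap_mem hΩ h16
  have h1 : IsMultiplyPretransitive L Ω 2 := by
    rw [is_two_pretransitive_iff]
    intro a b c d hab hcd
    obtain ⟨g, hg, h1, h2⟩ := hL a b c d hab hcd
    exact ⟨⟨g, hg⟩, h1, h2⟩
  have h2 : L = ⊤ := subgroup_eq_top_of_isPreprimitive_of_isSwap_mem (isPreprimitive_of_is_two_pretransitive h1) τ hs hτ
  rw [h2, Nat.card_congr (Subgroup.topEquiv).toEquiv, card_perm_seven hΩ] at hlt
  omega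

theorem trans_seven (hΩ : Nat.card Ω = 7) {P : Subgroup (Perm Ω)} (hP : Nat.card P = 7) :
    ∀ a b : Ω, ∃ w ∈ P, w a = b := by
  have hfin : Finite Ω := Nat.finite_of_card_ne_zero (by omega)
  obtain ⟨a, ha⟩ : ∃ a : Ω, ∃ w ∈ P, w a ≠ a := by
    by_contra hcon
    push Not at hcon
    have : P = ⊥ := by
      rw [eq_bot_iff]
      intro w hw
      rw [mem_bot]
      ext a
      exact hcon a w hw
    rw [this, Subgroup.card_bot] at hP
    omega
  have h1 := card_orb P a
  rw [hP] at h1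
  have h2 : (orbit P a).ncard ∣ 7 := ⟨_, h1⟩
  have h3 : (orbit P a).ncard = 7 := by
    rcases (Nat.dvd_prime (by norm_num)).1 h2 with h | h
    · exfalso
      rw [Set.ncard_eq_one] at h
      obtain ⟨c, hc⟩ := h
      obtain ⟨w, hw, hwa⟩ := ha
      apply hwa
      have h5 : w a ∈ orbit P a := ⟨⟨w, hw⟩, rfl⟩
      have h6 : a ∈ orbit P a := mem_orbit_self a
      rw [hc, Set.mem_singleton_iff] at h5 h6
      rw [h5, h6]
    · exact h
  have h4 : orbit P a = Set.univ := by
    apply Set.eq_of_subset_of_ncard_le (Set.subset_univ _)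
    rw [Set.ncard_univ, hΩ, h3]
  intro c d
  have h5 : c ∈ orbit P a := by rw [h4]; trivial
  have h6 : d ∈ orbit P a := by rw [h4]; trivial
  obtain ⟨u, rfl⟩ := h5
  obtain ⟨v, rfl⟩ := h6
  refine ⟨v * (u : Perm Ω)⁻¹, mul_mem v.2 (inv_mem u.2), ?_⟩
  change ((v : Perm Ω) * (u : Perm Ω)⁻¹) ((u : Perm Ω) a) = (v : Perm Ω) a
  simp

theorem syl7 (hΩ : Nat.card Ω = 7) {L P : Subgroup (Perm Ω)} (hP : Nat.card P = 7) (hle : P ≤ L) :
    ∃ n, n % 7 = 1 ∧ Nat.card L = Nat.card ↥(L ⊓ normalizer (P : Set (Perm Ω))) * n := by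
  have hfin : Finite Ω := Nat.finite_of_card_ne_zero (by omega)
  have : Fact (Nat.Prime 7) := ⟨by norm_num⟩
  have h0 : Nat.card (P.subgroupOf L) = 7 := by
    rw [← hP]
    exact Nat.card_congr (subgroupOfEquivOfLe hle).toEquiv
  have h1 : IsPGroup 7 (P.subgroupOf L) := IsPGroup.of_card (n := 1) (by rw [h0, pow_one])
  have h2 : ¬ 7 ∣ (P.subgroupOf L).index := by
    intro h
    have h3 := (P.subgroupOf L).card_mul_index
    rw [h0] at h3
    have h4 : 7 * 7 ∣ 5040 := by
      rw [← card_perm_seven hΩ]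
      refine dvd_trans ?_ (card_subgroup_dvd_card L)
      rw [← h3]
      exact mul_dvd_mul_left 7 h
    exact absurd h4 (by decide)
  let S : Sylow 7 L := h1.toSylow h2
  have h3 := card_sylow_modEq_one 7 L
  have h4 := S.card_eq_index_normalizer
  refine ⟨Nat.card (Sylow 7 L), h3, ?_⟩
  have h5 : normalizer ((S : Subgroup L) : Set L) = (normalizer (P : Set (Perm Ω))).subgroupOf L := by
    exact (subgroupOf_normalizer_eq hle).symm
  have h6 := (normalizer ((S : Subgroup L) : Set L)).card_mul_index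
  have h7 : Nat.card (normalizer ((S : Subgroup L) : Set L)) = Nat.card ↥(L ⊓ normalizer (P : Set (Perm Ω))) := by
    rw [h5, inf_comm, ← subgroupOf_map_subtype]
    exact (Nat.card_congr (equivMapOfInjective _ _ L.subtype_injective).toEquiv)
  rw [← h6, h7]
  congr 1
  exact h4.symm

theorem num7 {k T c d n n' : ℕ} (hk : k ≤ 2) (hT : T ∣ 2 ^ k) (hcd : c * d ∣ 6) (h12 : 6 * 2 ^ k = c * d * n)
    (h13 : 6 * T = c * n') (hn : n % 7 = 1) (hn' : n' % 7 = 1) : T = 2 ^ k := by
  have hcd6 : c * d ≤ 6 := Nat.le_of_dvd (by norm_num) hcd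
  have hcd0 : c * d ≠ 0 := by
    intro h
    rw [h] at hcd
    omega
  obtain ⟨e, he⟩ : ∃ e, e = c * d := ⟨_, rfl⟩
  rw [← he] at hcd hcd6 hcd0 h12
  have hc : c ∣ e := by rw [he]; exact dvd_mul_right _ _
  interval_cases k
  · rw [pow_zero, Nat.dvd_one] at hT
    rw [hT, pow_zero]
  · exfalso
    interval_cases e <;> omega
  · have he3 : e = 3 := by
      interval_cases e <;> omega
    rw [he3] at hc
    have hT4 : T ∣ 4 := by simpa using hT
    have hTle : T ≤ 4 := Nat.le_of_dvd (by norm_num) hT4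
    rcases (Nat.dvd_prime Nat.prime_three).1 hc with rfl | rfl
    · interval_cases T <;> omega
    · interval_cases T <;> omega

theorem deg7 (hΩ : Nat.card Ω = 7) {L L' : Subgroup (Perm Ω)} (hL : TwoTr L) (hL' : TwoTr L') (hle : L' ≤ L)
    {a : Ω} {Q : Subgroup (Perm Ω)} (hne : Q ≠ ⊥) (hQ : Q ≤ Stb L a) (hQn : (Q.subgroupOf (Stb L a)).Normal)
    (hQ2 : IsPGroup 2 Q) : L'.relIndex L = 1 := by
  have hfin : Finite Ω := Nat.finite_of_card_ne_zero (by omega)
  have : Fact (Nat.Prime 7) := ⟨by norm_num⟩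
  obtain ⟨b, hab⟩ : ∃ b : Ω, a ≠ b := by
    have : Nontrivial Ω := Finite.one_lt_card_iff_nontrivial.1 (by omega)
    obtain ⟨b, hb⟩ := exists_ne a
    exact ⟨b, hb.symm⟩
  obtain ⟨k, hk, hT⟩ := two_pow_seven hΩ hL hab hne hQ hQn hQ2
  have h1 := card_twoTr hL hab
  have h2 := card_twoTr hL' hab
  rw [hΩ, hT] at h1
  rw [hΩ] at h2
  have h3 : Nat.card ↥(Stb L' a ⊓ Stb L' b) ∣ 2 ^ k := by
    rw [← hT]
    exact card_dvd_of_le (inf_le_inf (inf_le_inf_right _ hle) (inf_le_inf_right _ hle))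
  set T' := Nat.card ↥(Stb L' a ⊓ Stb L' b) with hT'
  have h4 := card_mul_rel hle
  obtain ⟨P0, hP0⟩ := Sylow.exists_subgroup_card_pow_prime 7 (n := 1) (G := L') (by
    rw [h2, pow_one]
    exact dvd_mul_right _ _)
  set P : Subgroup (Perm Ω) := P0.map L'.subtype with hPdef
  have hP : Nat.card P = 7 := by
    rw [← pow_one 7, ← hP0]
    exact (Nat.card_congr (equivMapOfInjective _ _ L'.subtype_injective).toEquiv).symm
  have hPL' : P ≤ L' := by
    rw [hPdef]
    exact map_subtype_le P0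
  obtain ⟨n, hn, h5⟩ := syl7 hΩ hP (hPL'.trans hle)
  obtain ⟨n', hn', h6⟩ := syl7 hΩ hP hPL'
  have htr := trans_seven hΩ hP
  have h7 : Nat.card ↥(normalizer (P : Set (Perm Ω))) ∣ 42 := by
    have h8 : ∀ a b : Ω, ∃ w ∈ normalizer (P : Set (Perm Ω)), w a = b := by
      intro a b
      obtain ⟨w, hw, h⟩ := htr a b
      exact ⟨w, le_normalizer hw, h⟩
    rw [card_trans h8 a, hΩ, show 42 = 7 * 6 from rfl]
    exact mul_dvd_mul_left 7 (aut_bound (by norm_num) hP htr a)
  have h8 : Nat.card ↥(L ⊓ normalizer (P : Set (Perm Ω))) ∣ 42 := (card_dvd_of_le inf_le_right).trans h7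
  have h9 : Nat.card ↥(L' ⊓ normalizer (P : Set (Perm Ω))) ∣ Nat.card ↥(L ⊓ normalizer (P : Set (Perm Ω))) :=
    card_dvd_of_le (inf_le_inf_right _ hle)
  have h10 : 7 ∣ Nat.card ↥(L' ⊓ normalizer (P : Set (Perm Ω))) := by
    rw [← hP]
    exact card_dvd_of_le (le_inf hPL' le_normalizer)
  set e := Nat.card ↥(L ⊓ normalizer (P : Set (Perm Ω))) with he
  set e' := Nat.card ↥(L' ⊓ normalizer (P : Set (Perm Ω))) with he'
  obtain ⟨c', hc'⟩ := h10
  obtain ⟨d, hd⟩ := h9
  have h11 : c' * d ∣ 6 := by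
    rw [hd, hc', mul_assoc, show 42 = 7 * 6 from rfl] at h8
    exact Nat.dvd_of_mul_dvd_mul_left (by norm_num) h8
  have h12 : 6 * 2 ^ k = c' * d * n := by
    rw [h1, hd, hc'] at h5
    have h13 : 7 * (6 * 2 ^ k) = 7 * (c' * d * n) := by
      rw [show (7 * c' * d * n) = 7 * (c' * d * n) by ring] at h5
      exact h5
    exact Nat.eq_of_mul_eq_mul_left (by norm_num) h13
  have h13 : 6 * T' = c' * n' := by
    rw [h2, hc'] at h6
    have h13 : 7 * (6 * T') = 7 * (c' * n') := by
      rw [mul_assoc] at h6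
      exact h6
    exact Nat.eq_of_mul_eq_mul_left (by norm_num) h13
  have hkey : T' = 2 ^ k := by
    have hk3 : k ≠ 3 := by
      rintro rfl
      exact not_sixteen hΩ hL (by rw [h1]; norm_num) (by rw [h1]; norm_num)
    exact num7 (by omega) h3 h11 h12 h13 hn hn'
  rw [h1, h2, hkey] at h4
  have h14 : 0 < 7 * ((7 - 1) * 2 ^ k) := by positivity
  exact Nat.eq_of_mul_eq_mul_left h14 (by rw [h4, mul_one])

end Cfsg.Agent.H592.E4
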