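import Cfsg.Agent.H592.E4.Perm

/-!
# S3414 [E4] (helper592): `L y = S_5`, `L' y = 5:4`, `p = 2`: `s` is a power of `2`
-/

set_option autoImplicit false

namespace Cfsg.Agent.H592.E4

open Cfsg.Agent.H873.Tits Equiv Equiv.Perm Subgroup MulAction

universe u v

variable {G : Type u} [Group G] {V : Type v} [MulAction G V] {P : Pol G V}

theorem mem_S {v : V} {g : G} : g ∈ P.S v ↔ g • v = v := Iff.rfl

theorem mem_img {v : V} {X : Subgroup G} {σ : Perm {w : V // P.adj v w}} :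
    σ ∈ P.img v X ↔ ∃ g ∈ X, ∃ h : g ∈ P.S v, P.toPerm v ⟨g, h⟩ = σ := by
  rw [Pol.img, mem_map]
  constructor
  · rintro ⟨g, hg, rfl⟩
    exact ⟨g, hg, g.2, rfl⟩
  · rintro ⟨g, hg, h, rfl⟩
    exact ⟨⟨g, h⟩, hg, rfl⟩

theorem toPerm_mem {v : V} {X : Subgroup G} {g : G} (hg : g ∈ X) (h : g ∈ P.S v) :
    P.toPerm v ⟨g, h⟩ ∈ P.img v X := mem_img.2 ⟨g, hg, h, rfl⟩

theorem toPerm_eq_one {v : V} {g : G} (h : g ∈ P.S v) : P.toPerm v ⟨g, h⟩ = 1 ↔ g ∈ P.K v := by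
  rw [P.mem_K]
  constructor
  · intro h1
    refine ⟨h, fun w hw => ?_⟩
    have := congrArg (fun f : Perm {w : V // P.adj v w} => ((f ⟨w, hw⟩ : {w : V // P.adj v w}) : V)) h1
    simpa using this
  · rintro ⟨-, h2⟩
    ext w
    rw [P.toPerm_apply]
    exact h2 w w.2

theorem img_mono {v : V} {X Y : Subgroup G} (h : X ≤ Y) : P.img v X ≤ P.img v Y := by
  intro σ hσ
  obtain ⟨g, hg, hv, rfl⟩ := mem_img.1 hσ
  exact toPerm_mem (h hg) hv

theorem img_ne_bot {v : V} {X : Subgroup G} (h : X ≤ P.S v) (hK : ¬ X ≤ P.K v) : P.img v X ≠ ⊥ := by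
  intro h1
  apply hK
  intro g hg
  have h2 := toPerm_mem (P := P) hg (h hg)
  rw [h1, mem_bot, toPerm_eq_one] at h2
  exact h2

/-- `X ⊓ K v` is the kernel of `X → img v X` -/
theorem card_img [Finite G] {v : V} {X : Subgroup G} (h : X ≤ P.S v) :
    Nat.card X = Nat.card ↥(X ⊓ P.K v) * Nat.card (P.img v X) := by
  let f : X →* Perm {w : V // P.adj v w} := (P.toPerm v).comp (inclusion h)
  have h1 : f.range = P.img v X := by
    ext σ
    rw [MonoidHom.mem_range, mem_img]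
    constructor
    · rintro ⟨g, rfl⟩
      exact ⟨g, g.2, h g.2, rfl⟩
    · rintro ⟨g, hg, hv, rfl⟩
      exact ⟨⟨g, hg⟩, rfl⟩
  have h2 : Nat.card f.ker = Nat.card ↥(X ⊓ P.K v) := by
    have h3 : f.ker = (P.K v).subgroupOf X := by
      ext g
      rw [MonoidHom.mem_ker, mem_subgroupOf, ← toPerm_eq_one (h g.2)]
      rfl
    rw [h3, inf_comm, ← subgroupOf_map_subtype]
    exact (Nat.card_congr (equivMapOfInjective _ _ X.subtype_injective).toEquiv)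
  have h3 := f.ker.card_mul_index
  rw [index_ker, h1, h2] at h3
  exact h3.symm

theorem isPGroup_img {p : ℕ} {v : V} {X : Subgroup G} (h : IsPGroup p X) : IsPGroup p (P.img v X) :=
  (h.comap_subtype).map _

theorem L'_le_L {v v' : V} : P.L' v v' ≤ P.L v := img_mono inf_le_left

theorem twoTr_L (F : Facts P) (v : V) : TwoTr (P.L v) := by
  intro a b a' b' hab hab'
  obtain ⟨g, hg, h1, h2⟩ := F.two_trans a.2 b.2 (fun h => hab (Subtype.ext h)) a'.2 b'.2 (fun h => hab' (Subtype.ext h))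
  exact ⟨P.toPerm v ⟨g, hg⟩, toPerm_mem hg hg, Subtype.ext h1, Subtype.ext h2⟩

theorem twoTr_L' (F : Facts P) {v v' : V} (ho : P.Opp v v') : TwoTr (P.L' v v') := by
  intro a b a' b' hab hab'
  obtain ⟨g, hg, h1, h2⟩ := F.two_trans' ho a.2 b.2 (fun h => hab (Subtype.ext h)) a'.2 b'.2
    (fun h => hab' (Subtype.ext h))
  exact ⟨P.toPerm v ⟨g, hg.1⟩, toPerm_mem hg hg.1, Subtype.ext h1, Subtype.ext h2⟩

theorem mem_Stb_img {v a : V} {X : Subgroup G} (ha : P.adj v a) {σ : Perm {w : V // P.adj v w}} :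
    σ ∈ Stb (P.img v X) ⟨a, ha⟩ ↔ ∃ g ∈ X, ∃ h : g ∈ P.S v, g ∈ P.S a ∧ P.toPerm v ⟨g, h⟩ = σ := by
  constructor
  · rintro ⟨h1, h2⟩
    obtain ⟨g, hg, hv, rfl⟩ := mem_img.1 h1
    exact ⟨g, hg, hv, congrArg Subtype.val h2, rfl⟩
  · rintro ⟨g, hg, hv, h2, rfl⟩
    exact ⟨toPerm_mem hg hv, Subtype.ext h2⟩

theorem T2_eq {v a b : V} (ha : P.adj v a) (hb : P.adj v b) :
    P.T2 v a b = Nat.card ↥(Stb (P.L v) ⟨a, ha⟩ ⊓ Stb (P.L v) ⟨b, hb⟩) := by
  rw [Pol.T2]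
  congr 2
  ext σ
  rw [mem_inf]
  constructor
  · intro h
    obtain ⟨g, ⟨h1, h2⟩, hv, rfl⟩ := mem_img.1 h
    exact ⟨(mem_Stb_img ha).2 ⟨g, hv, hv, h1, rfl⟩, (mem_Stb_img hb).2 ⟨g, hv, hv, h2, rfl⟩⟩
  · rintro ⟨h1, h2⟩
    obtain ⟨g, hg, hv, h3, rfl⟩ := (mem_Stb_img ha).1 h1
    have h4 : g ∈ P.S a ⊓ P.S b := ⟨h3, congrArg Subtype.val h2.2⟩
    exact toPerm_mem h4 hv

theorem conj_mem_K {v : V} {g a : G} (hg : g ∈ P.S v) (ha : a ∈ P.K v) : g * a * g⁻¹ ∈ P.K v := by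
  have h1 : P.toPerm v (⟨g, hg⟩ * ⟨a, P.K_le_S v ha⟩ * ⟨g, hg⟩⁻¹) = 1 := by
    rw [map_mul, map_mul, (toPerm_eq_one (P.K_le_S v ha)).2 ha, mul_one, map_inv, mul_inv_cancel]
  exact (toPerm_eq_one _).1 h1

theorem K_le_S_nb {x y : V} (h : P.adj x y) : P.K x ≤ P.S y := fun _ ha => ha.2 y h

theorem tp_not {x y : V} (h : P.adj x y) : P.tp x = !P.tp y := by
  rw [P.tp_adj h, Bool.not_not]

theorem conj_K_smul {v : V} {g a : G} (ha : a ∈ P.K v) : g * a * g⁻¹ ∈ P.K (g • v) := by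
  rw [P.mem_K]
  refine ⟨?_, fun w hw => ?_⟩
  · rw [mul_smul, mul_smul, inv_smul_smul, P.K_le_S v ha]
  · have h1 : P.adj v (g⁻¹ • w) := by
      have := P.smul_adj g⁻¹ hw
      rwa [inv_smul_smul] at this
    rw [mul_smul, mul_smul, ha.2 _ h1, smul_inv_smul]

/-! ### odd parameters -/

theorem card_nb_ne {x y : V} [Finite V] (h : P.adj x y) : Nat.card {w : V // P.adj x w ∧ w ≠ y} = P.q (P.tp x) := by
  have h1 := P.card_nb x
  have h2 : Nat.card {w : V // P.adj x w ∧ w ≠ y} = ({w : V | P.adj x w} \ {y}).ncard := rfl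
  rw [h2, Set.ncard_sdiff_singleton_of_mem (show y ∈ {w : V | P.adj x w} from h)]
  have h3 : ({w : V | P.adj x w}).ncard = P.q (P.tp x) + 1 := h1
  rw [h3]
  rfl

theorem s_even (F : Facts P) [Finite G] [Finite V] (hA : CaseA P 2) {x y : V} (hxy : P.adj x y) : 2 ∣ P.q (P.tp x) := by
  have : Fact (Nat.Prime 2) := ⟨Nat.prime_two⟩
  obtain ⟨Q, hQK, hQn, hQ2, hQx⟩ := hA.big hxy
  by_contra hodd
  apply hQx
  have hQS : Q ≤ P.S x := hQK.trans (K_le_S_nb (P.symm hxy))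
  have hQy : Q ≤ P.S y := hQK.trans (P.K_le_S y)
  let act : MulAction Q {w : V // P.adj x w ∧ w ≠ y} :=
    { smul := fun u w => ⟨(u : G) • w.1, by
        have h1 := P.smul_adj (u : G) w.2.1
        rwa [mem_S.1 (hQS u.2)] at h1, fun h => w.2.2 (by
          rw [smul_eq_iff_eq_inv_smul] at h
          rw [h, inv_smul_eq_iff]
          exact (mem_S.1 (hQy u.2)).symm)⟩
      one_smul := fun w => Subtype.ext (one_smul G w.1)
      mul_smul := fun u v w => Subtype.ext (mul_smul (u : G) (v : G) w.1) }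
  obtain ⟨w0, hw0⟩ := hQ2.nonempty_fixed_point_of_prime_not_dvd_card {w : V // P.adj x w ∧ w ≠ y}
    (by rwa [card_nb_ne hxy])
  intro u hu
  refine ⟨hQS hu, fun w hw => ?_⟩
  by_cases hwy : w = y
  · rw [hwy]
    exact hQy hu
  · obtain ⟨g, hg, h1, h2⟩ := F.two_trans hxy w0.2.1 (Ne.symm w0.2.2) hxy hw (Ne.symm hwy)
    have h3 : g⁻¹ * u * g ∈ Q := by
      have h4 := hQn.conj_mem ⟨u, hQy hu⟩ hu ⟨g, h1⟩⁻¹
      rw [inv_inv] at h4
      exact h4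
    have h5 : (g⁻¹ * u * g) • w0.1 = w0.1 := congrArg Subtype.val (hw0 ⟨_, h3⟩)
    rw [mul_smul, mul_smul, inv_smul_eq_iff, h2] at h5
    exact h5

/-! ### `idx = 1` in degree 7 and 13 -/

/-- the data `LQ` for `L x` -/
theorem LQ_img (hA : CaseA P 2) {x y : V} (hxy : P.adj x y) : ∃ Q : Subgroup (Perm {w : V // P.adj x w}),
    Q ≠ ⊥ ∧ Q ≤ Stb (P.L x) ⟨y, hxy⟩ ∧ (Q.subgroupOf (Stb (P.L x) ⟨y, hxy⟩)).Normal ∧ IsPGroup 2 Q := by
  obtain ⟨Q, hQK, hQn, hQ2, hQx⟩ := hA.big hxy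
  have hQS : Q ≤ P.S x := hQK.trans (K_le_S_nb (P.symm hxy))
  have hQy : Q ≤ P.S y := hQK.trans (P.K_le_S y)
  have hle : P.img x Q ≤ Stb (P.L x) ⟨y, hxy⟩ := by
    intro σ hσ
    obtain ⟨g, hg, hv, rfl⟩ := mem_img.1 hσ
    exact (mem_Stb_img hxy).2 ⟨g, hv, hv, hQy hg, rfl⟩
  refine ⟨P.img x Q, img_ne_bot hQS hQx, hle, ?_, isPGroup_img hQ2⟩
  constructor
  rintro ⟨σ, hσ1⟩ hσ ⟨τ, hτ1⟩
  rw [mem_subgroupOf] at hσ ⊢
  obtain ⟨g, hg, hv, h1⟩ := mem_img.1 hσ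
  obtain ⟨h, hh, hh2, hh3, h2⟩ := (mem_Stb_img hxy).1 hτ1
  have h3 : h * g * h⁻¹ ∈ Q := hQn.conj_mem ⟨g, hQy hg⟩ hg ⟨h, hh3⟩
  have h4 := toPerm_mem (P := P) h3 (hQS h3)
  have h5 : P.toPerm x ⟨h * g * h⁻¹, hQS h3⟩ = τ * σ * τ⁻¹ := by
    rw [← h2]
    simp only at h1
    rw [← h1, ← map_inv, ← map_mul, ← map_mul]
    rfl
  rw [h5] at h4
  exact h4

theorem idx_seven (F : Facts P) (hA : CaseA P 2) {x y x' : V} (hxy : P.adj x y) (hs : P.q (P.tp x) = 6)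
    (ho : P.Opp x x') : P.idx x x' = 1 := by
  obtain ⟨Q, h1, h2, h3, h4⟩ := LQ_img hA hxy
  exact deg7 (by rw [P.card_nb, hs]) (twoTr_L F x) (twoTr_L' F ho) L'_le_L h1 h2 h3 h4

theorem idx_thirteen (hT : StTab1a.{v}) (F : Facts P) [Finite V] (hA : CaseA P 2) {x y x' : V} (hxy : P.adj x y)
    (hs : P.q (P.tp x) = 12) (ho : P.Opp x x') : P.idx x x' = 1 := by
  obtain ⟨Q, h1, h2, h3, h4⟩ := LQ_img hA hxy
  have hcard : Nat.card {w : V // P.adj x w} = 13 := by rw [P.card_nb, hs]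
  refine aff13 hcard (twoTr_L F x) (twoTr_L' F ho) L'_le_L ?_
  by_contra hAff
  obtain ⟨b, hb⟩ : ∃ b : {w : V // P.adj x w}, b ≠ ⟨y, hxy⟩ := by
    have : Nontrivial {w : V // P.adj x w} := Finite.one_lt_card_iff_nontrivial.1 (by omega)
    exact exists_ne _
  have hLQ : LQ (P.L x) 12 2 ⟨y, hxy⟩ b Q :=
    { two := twoTr_L F x
      card := hcard
      two_le := by norm_num
      prime := Nat.prime_two
      ne := hb.symm
      Q_ne := h1
      Q_le := h2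
      Q_normal := h3
      Q_p := h4 }
  rcases hT (P.L x) 12 2 _ b Q hLQ hAff with ⟨k, hk⟩ | ⟨d, f, hd, hf, -, hc, -⟩
  · have h5 : 3 ∣ 2 ^ k := by rw [← hk]; norm_num
    have h6 := Nat.prime_three.dvd_of_dvd_pow h5
    omega
  · rw [hcard] at hc
    obtain ⟨r, hr⟩ : ∃ r, r = 2 ^ f := ⟨_, rfl⟩
    have hr2 : 2 ≤ r := by
      rw [hr]
      calc 2 = 2 ^ 1 := rfl
        _ ≤ 2 ^ f := Nat.pow_le_pow_right (by norm_num) hf
    rw [← hr] at hc
    have h5 : r ^ 3 ≤ r ^ d := Nat.pow_le_pow_right (by omega) hd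
    have h6 : r ≤ 3 := by
      by_contra hcon
      have h7 : r ^ 3 ≥ 16 * r := by
        have : r ^ 3 = r * r * r := by ring
        rw [this]
        exact Nat.mul_le_mul_right r (Nat.mul_le_mul (show 4 ≤ r by omega) (show 4 ≤ r by omega))
      have h8 : 13 * (r - 1) = r ^ d - 1 := hc
      omega
    interval_cases r
    · have h7 : 2 ^ d = 14 := by omega
      have h8 : 7 ∣ 2 ^ d := by rw [h7]; norm_num
      have h9 := (Nat.Prime.dvd_of_dvd_pow (by norm_num) h8)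
      omega
    · have h7 : 3 ∣ 2 ^ f := by rw [← hr]
      have h8 := Nat.prime_three.dvd_of_dvd_pow h7
      omega

/-! ### the main contradiction -/

theorem H_fix {p : ℕ → V} {k : ℕ} {g : G} : g ∈ P.PS k p ↔ ∀ i, i ≤ k → g • p i = p i := by
  rw [Pol.PS, mem_iInf]
  constructor
  · intro h i hi
    exact h ⟨i, hi⟩
  · rintro h ⟨i, hi⟩
    exact h i hi

/-- images in `L w` -/
theorem comm_mem [Finite G] {x y w : V} {c : ℕ} (hxy : P.adj x y) (hyw : P.adj y w)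
    (hE : Nat.card ↥(P.K x ⊓ P.K y) = 2 ^ c) {r1 r2 t1 : G}
    (h1 : r1 ∈ P.K x) (h2 : r2 ∈ P.K x) (h1w : r1 ∈ P.S w) (h2w : r2 ∈ P.S w) (ht : t1 ∈ P.K w)
    (h : t1⁻¹ * r1 ∈ P.K y) : (r1 * r2 * r1⁻¹ * r2⁻¹) ^ 2 ^ c ∈ P.K x ⊓ P.K w := by
  have hr1y : r1 ∈ P.S y := K_le_S_nb hxy h1
  have hr2y : r2 ∈ P.S y := K_le_S_nb hxy h2
  obtain ⟨z, hz⟩ : ∃ z, z = t1⁻¹ * r1 := ⟨_, rfl⟩
  rw [← hz] at h
  have hzx : z ∈ P.S x := K_le_S_nb (P.symm hxy) h
  have hzw : z ∈ P.S w := K_le_S_nb hyw h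
  have he : z * r2 * z⁻¹ * r2⁻¹ ∈ P.K x ⊓ P.K y := by
    refine mem_inf.2 ⟨mul_mem (conj_mem_K hzx h2) (inv_mem h2), ?_⟩
    have h3 := mul_mem h (conj_mem_K hr2y (inv_mem h))
    have h4 : z * (r2 * z⁻¹ * r2⁻¹) = z * r2 * z⁻¹ * r2⁻¹ := by group
    rwa [h4] at h3
  have he1 : (z * r2 * z⁻¹ * r2⁻¹) ^ 2 ^ c = 1 := by
    have h5 : (⟨_, he⟩ : ↥(P.K x ⊓ P.K y)) ^ Nat.card ↥(P.K x ⊓ P.K y) = 1 := pow_card_eq_one'
    rw [hE] at h5
    exact congrArg Subtype.val h5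
  have ht' : t1 ∈ P.S w := P.K_le_S w ht
  have h6 : P.toPerm w ⟨r1, h1w⟩ = P.toPerm w ⟨z, hzw⟩ := by
    have h7 : (⟨r1, h1w⟩ : P.S w) = ⟨t1, ht'⟩ * ⟨z, hzw⟩ := by
      apply Subtype.ext
      change r1 = t1 * z
      rw [hz, mul_inv_cancel_left]
    rw [h7, map_mul, (toPerm_eq_one ht').2 ht, one_mul]
  have hzw' : z * r2 * z⁻¹ * r2⁻¹ ∈ P.S w := mul_mem (mul_mem (mul_mem hzw h2w) (inv_mem hzw)) (inv_mem h2w)
  have hrw' : r1 * r2 * r1⁻¹ * r2⁻¹ ∈ P.S w := mul_mem (mul_mem (mul_mem h1w h2w) (inv_mem h1w)) (inv_mem h2w)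
  have h7 : P.toPerm w ⟨r1 * r2 * r1⁻¹ * r2⁻¹, hrw'⟩ = P.toPerm w ⟨z * r2 * z⁻¹ * r2⁻¹, hzw'⟩ := by
    have h8 : (⟨r1 * r2 * r1⁻¹ * r2⁻¹, hrw'⟩ : P.S w) = ⟨r1, h1w⟩ * ⟨r2, h2w⟩ * ⟨r1, h1w⟩⁻¹ * ⟨r2, h2w⟩⁻¹ := rfl
    have h9 : (⟨z * r2 * z⁻¹ * r2⁻¹, hzw'⟩ : P.S w) = ⟨z, hzw⟩ * ⟨r2, h2w⟩ * ⟨z, hzw⟩⁻¹ * ⟨r2, h2w⟩⁻¹ := rfl
    rw [h8, h9]
    simp only [map_mul, map_inv, h6]
  refine mem_inf.2 ⟨pow_mem (mul_mem (mul_mem (mul_mem h1 h2) (inv_mem h1)) (inv_mem h2)) _, ?_⟩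
  rw [← toPerm_eq_one (pow_mem hrw' _)]
  have h8 : (⟨(r1 * r2 * r1⁻¹ * r2⁻¹) ^ 2 ^ c, pow_mem hrw' _⟩ : P.S w) = ⟨r1 * r2 * r1⁻¹ * r2⁻¹, hrw'⟩ ^ 2 ^ c := rfl
  rw [h8, map_pow, h7, ← map_pow]
  have h9 : (⟨z * r2 * z⁻¹ * r2⁻¹, hzw'⟩ : P.S w) ^ 2 ^ c = 1 := Subtype.ext he1
  rw [h9, map_one]

theorem main_contra (F : Facts P) [Finite G] [Finite V] (hA : CaseA P 2) (hn : P.n = 4) {x y y' : V}
    (hxy : P.adj x y) (ho : P.Opp y y') (ht : P.q (P.tp y) = 4) (hL : Nat.card (P.L y) = 120)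
    (hL' : Nat.card (P.L' y y') = 20) (hs3 : 3 ∣ P.q (P.tp x)) (hs9 : ∀ c, ¬ 9 ∣ P.q (P.tp x) * 16 * 2 ^ c)
    (hi : ∀ x', P.Opp x x' → P.idx x x' = 1) : False := by
  classical
  have : Fact (Nat.Prime 2) := ⟨Nat.prime_two⟩
  have : Fact (Nat.Prime 3) := ⟨Nat.prime_three⟩
  have hyx : P.adj y x := P.symm hxy
  have hcard5 : Nat.card {w : V // P.adj y w} = 5 := by rw [P.card_nb, ht]
  let _ : Fintype {w : V // P.adj y w} := Fintype.ofFinite _
  have htop : P.L y = ⊤ := by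
    apply eq_top_of_card_eq
    rw [hL, Nat.card_perm, hcard5]
    rfl
  -- every permutation of the neighbours of `y` is induced
  have hall : ∀ σ : Perm {w : V // P.adj y w}, ∃ g, ∃ h : g ∈ P.S y, P.toPerm y ⟨g, h⟩ = σ := by
    intro σ
    have h1 : σ ∈ P.L y := by rw [htop]; trivial
    obtain ⟨g, -, h2, h3⟩ := mem_img.1 h1
    exact ⟨g, h2, h3⟩
  obtain ⟨w, hyw, hwx⟩ : ∃ w, P.adj y w ∧ w ≠ x := by
    have h1 := card_nb_ne hyx
    rw [ht] at h1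
    have : Nonempty {w : V // P.adj y w ∧ w ≠ x} := by
      by_contra hcon
      rw [not_nonempty_iff] at hcon
      rw [Nat.card_of_isEmpty] at h1
      omega
    obtain ⟨w, hw⟩ := this
    exact ⟨w, hw⟩
  obtain ⟨p, hp, hp1, hp2, hp3⟩ := F.extend3 hxy hyw (Ne.symm hwx)
  -- `H p ≤ K y`
  have hidx : P.idx y y' = 6 := by
    have h1 := card_mul_rel (L'_le_L (P := P) (v := y) (v' := y'))
    rw [hL, hL'] at h1
    rw [Pol.idx]
    omega
  have hT2 : P.T2 y x w = 6 := by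
    rw [T2_eq hyx hyw]
    have h1 := card_twoTr (twoTr_L F y) (a := ⟨x, hyx⟩) (b := ⟨w, hyw⟩) (fun h => hwx (congrArg Subtype.val h).symm)
    rw [hL, hcard5] at h1
    omega
  have hHK : P.H p ≤ P.K y := by
    have h1 := F.count_T2 ho hp (i := 1) (by omega) hp2
    rw [hp1, show 1 + 2 = 3 from rfl, hp3, hT2, hidx] at h1
    have h2 : Nat.card ↥(P.K y ⊓ P.H p) = Nat.card ↥(P.H p) := by omega
    have h3 : P.K y ⊓ P.H p = P.H p := eq_of_le_of_card_ge inf_le_right h2.ge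
    exact h3 ▸ inf_le_left
  -- `k` is a power of two
  obtain ⟨c, hc⟩ : ∃ c, Nat.card ↥(P.K x ⊓ P.H p) = 2 ^ c := by
    rw [← IsPGroup.iff_card]
    exact (hA.pgroup hxy).to_le (inf_le_inf_left _ hHK)
  obtain ⟨c1, hc1⟩ : ∃ c, Nat.card ↥(P.K x ⊓ P.K y) = 2 ^ c := by
    rw [← IsPGroup.iff_card]
    exact hA.pgroup hxy
  obtain ⟨x', hx'⟩ := F.exists_opp x
  have hKx : Nat.card ↥(P.K x) = P.q (P.tp x) * 16 * 2 ^ c := by
    have h1 := F.count_opp hx'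
    rw [hi x' hx', one_mul, hn, F.card_k hx' hp (i := 1) (by omega) hp1, hc, ← tp_not (P.symm hxy), ht] at h1
    rw [h1]
    norm_num
  -- the path to `y'`
  obtain ⟨a, p', hp', hp'0, hp'1, hp'2, hp'n⟩ := F.proj_exists ho hyx
  obtain ⟨p2, hp2', hpp⟩ := F.extend (Nat.le_succ _) hp'
  rw [hn] at hpp hp'n
  have e0 : p2 0 = y := by rw [hpp 0 (by omega), hp'0]
  have e1 : p2 1 = x := by rw [hpp 1 (by omega), hp'1]
  have e4 : p2 4 = y' := by rw [hpp 4 (by omega), hp'n]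
  have hp2p := hp2'
  rw [hn] at hp2p
  obtain ⟨b, hb⟩ : ∃ b, b = p2 3 := ⟨_, rfl⟩
  obtain ⟨a, ha⟩ : ∃ a, a = p2 2 := ⟨_, rfl⟩
  have hxa : P.adj x a := by
    have := hp2p.1 1 (by omega)
    rwa [e1, show 1 + 1 = 2 from rfl, ← ha] at this
  have hab : P.adj a b := by
    have := hp2p.1 2 (by omega)
    rwa [← ha, show 2 + 1 = 3 from rfl, ← hb] at this
  have hby : P.adj b y' := by
    have := hp2p.1 3 (by omega)
    rwa [← hb, show 3 + 1 = 4 from rfl, e4] at this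
  have hbx : b ≠ x := by
    have := hp2p.2 1 (by omega)
    rwa [e1, show 1 + 2 = 3 from rfl, ← hb] at this
  have hya : y' ≠ a := by
    have := hp2p.2 2 (by omega)
    rwa [← ha, show 2 + 2 = 4 from rfl, e4] at this
  have htpa : P.tp a = P.tp y := by
    rw [P.tp_adj hxa, P.tp_adj hxy]
  have htpb : P.tp b = P.tp x := by
    rw [P.tp_adj hab, P.tp_adj hxa, Bool.not_not]
  -- the order of `D`
  set B : Subgroup G := P.K x ⊓ P.S b with hB
  set D : Subgroup G := B ⊓ P.S y' with hD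
  have hrel1 : B.relIndex (P.K x) ≤ 4 := by
    have h1 := F.relIndex_dvd hxa (P.symm hab) (Ne.symm hbx)
    rw [htpa, ht] at h1
    exact Nat.le_of_dvd (by norm_num) h1
  have hBa : B ≤ P.S a := inf_le_left.trans (K_le_S_nb hxa)
  have hrel2 : D.relIndex B ≤ P.q (P.tp x) := by
    have h1 : D.relIndex B = (orbit B y').ncard := rel_stab B y'
    rw [h1, ← htpb, ← card_nb_ne (P.symm hab)]
    have h2 : Nat.card {w : V // P.adj b w ∧ w ≠ a} = ({w : V | P.adj b w ∧ w ≠ a}).ncard := rfl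
    rw [h2]
    apply Set.ncard_le_ncard _ (Set.toFinite _)
    rintro _ ⟨u, rfl⟩
    have hub : (u : G) • b = b := u.2.2
    have hua : (u : G) • a = a := hBa u.2
    refine ⟨?_, ?_⟩
    · have h3 := P.smul_adj (u : G) hby
      rw [hub] at h3
      exact h3
    · intro h
      apply hya
      have h4 : (u : G) • y' = (u : G) • a := by
        rw [hua]
        exact h
      exact smul_left_cancel _ h4
  have hDcard : 4 ≤ Nat.card D := by
    have h1 := card_mul_rel (inf_le_left : B ≤ P.K x)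
    have h2 := card_mul_rel (inf_le_left : D ≤ B)
    rw [← h2, hKx] at h1
    have hs0 : 0 < P.q (P.tp x) := by
      have := P.two_le (P.tp x)
      omega
    have h3 : P.q (P.tp x) * 16 * 2 ^ c ≤ Nat.card D * P.q (P.tp x) * 4 := by
      rw [← h1]
      exact Nat.mul_le_mul (Nat.mul_le_mul_left _ hrel2) hrel1
    have h4 : P.q (P.tp x) * 16 ≤ P.q (P.tp x) * 16 * 2 ^ c := Nat.le_mul_of_pos_right _ (by positivity)
    have h5 : P.q (P.tp x) * 16 ≤ P.q (P.tp x) * (Nat.card D * 4) := by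
      calc P.q (P.tp x) * 16 ≤ P.q (P.tp x) * 16 * 2 ^ c := h4
        _ ≤ Nat.card D * P.q (P.tp x) * 4 := h3
        _ = P.q (P.tp x) * (Nat.card D * 4) := by ring
    have h6 := Nat.le_of_mul_le_mul_left h5 hs0
    omega
  -- `D` acts faithfully on the neighbours of `y`
  have hDy : D ≤ P.S y := (inf_le_left.trans inf_le_left).trans (K_le_S_nb hxy)
  have hDK : D ⊓ P.K y = ⊥ := by
    rw [eq_bot_iff]
    rintro g ⟨⟨⟨hg1, hg2⟩, hg3⟩, hg4⟩
    rw [mem_bot]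
    have h1 : g ∈ P.K y' := F.K_opp ho ⟨hg4, hg3⟩
    have h2 : g ∈ P.PS P.n p' := F.K_opp_H hp' hp'0 (by rw [hn]; exact hp'n) ⟨hg4, hg3⟩
    rw [hn, H_fix] at h2
    refine F.rigid (i := 0) hp2' (Nat.zero_le _) (by rw [e0]; exact hg4) (by rw [e1]; exact hg1) ?_
    rw [Pol.H, hn, H_fix]
    intro i hi
    rcases Nat.lt_or_ge i 5 with h | h
    · rw [hpp i (by omega)]
      exact h2 i (by omega)
    · have hi5 : i = 5 := by omega
      rw [hi5]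
      apply h1.2
      have := hp2p.1 4 (by omega)
      rwa [e4, show 4 + 1 = 5 from rfl] at this
  have hDimg : Nat.card (P.img y D) = Nat.card D := by
    have := card_img hDy
    rw [hDK, Subgroup.card_bot, one_mul] at this
    exact this.symm
  have hSt : Nat.card ↥(Stb (P.L' y y') ⟨x, hyx⟩) = 4 := by
    have := card_trans (twoTr_trans (twoTr_L' F ho)) ⟨x, hyx⟩
    rw [hL', hcard5] at this
    omega
  have hDle : P.img y D ≤ Stb (P.L' y y') ⟨x, hyx⟩ := by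
    intro σ hσ
    obtain ⟨g, hg, hv, rfl⟩ := mem_img.1 hσ
    exact (mem_Stb_img hyx).2 ⟨g, ⟨hv, hg.2⟩, hv, P.K_le_S x hg.1.1, rfl⟩
  have hDeq : P.img y D = Stb (P.L' y y') ⟨x, hyx⟩ := eq_of_le_of_card_ge hDle (by rw [hSt, hDimg]; exact hDcard)
  set N := P.img y (P.K x) with hN
  obtain ⟨g0, hg0, hg0s⟩ := odd_stab hcard5 hL' (twoTr_trans (twoTr_L' F ho)) ⟨x, hyx⟩
  have hfull : stabilizer (Perm {w : V // P.adj y w}) (⟨x, hyx⟩ : {w : V // P.adj y w}) ≤ N := by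
    apply full_stab hcard5
    · intro σ hσ
      obtain ⟨g, hg, hv, rfl⟩ := mem_img.1 hσ
      exact Subtype.ext (P.K_le_S x hg)
    · intro τ hτ σ hσ
      obtain ⟨g, hg, hv, rfl⟩ := mem_img.1 hσ
      obtain ⟨h, hh, rfl⟩ := hall τ
      have hhx : h ∈ P.S x := congrArg Subtype.val hτ
      have h3 : h * g * h⁻¹ ∈ P.K x := conj_mem_K hhx hg
      have h4 : P.toPerm y ⟨h * g * h⁻¹, K_le_S_nb hxy h3⟩ =
          P.toPerm y ⟨h, hh⟩ * P.toPerm y ⟨g, hv⟩ * (P.toPerm y ⟨h, hh⟩)⁻¹ := by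
        rw [← map_inv, ← map_mul, ← map_mul]
        rfl
      rw [← h4]
      exact toPerm_mem h3 (K_le_S_nb hxy h3)
    · have h1 := card_img (K_le_S_nb hxy)
      rw [hKx, hc1] at h1
      have h2 : 3 ∣ 2 ^ c1 * Nat.card (P.img y (P.K x)) := by
        rw [← h1, mul_assoc]
        exact hs3.mul_right _
      rcases Nat.prime_three.dvd_mul.1 h2 with h3 | h3
      · exact absurd (Nat.prime_three.dvd_of_dvd_pow h3) (by norm_num)
      · exact h3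
    · refine ⟨g0, ?_, hg0s⟩
      rw [← hDeq] at hg0
      exact img_mono (inf_le_left.trans inf_le_left) hg0
  -- the same for `w`
  obtain ⟨g, hgy, hgx, -⟩ := F.two_trans hyx hyw (Ne.symm hwx) hyw hyx hwx
  have hfullw : ∀ σ : Perm {w : V // P.adj y w}, σ ⟨w, hyw⟩ = ⟨w, hyw⟩ → σ ∈ P.img y (P.K w) := by
    intro σ hσ
    obtain ⟨γ, hγ⟩ : ∃ γ, γ = P.toPerm y ⟨g, hgy⟩ := ⟨_, rfl⟩
    have hγx : γ ⟨x, hyx⟩ = ⟨w, hyw⟩ := by
      rw [hγ]
      exact Subtype.ext hgx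
    have h1 : γ⁻¹ * σ * γ ∈ N := by
      apply hfull
      change (γ⁻¹ * σ * γ) ⟨x, hyx⟩ = ⟨x, hyx⟩
      rw [Perm.mul_apply, Perm.mul_apply, hγx, hσ, ← hγx, ← Perm.mul_apply, inv_mul_cancel]
      rfl
    obtain ⟨k, hk, hky, h2⟩ := mem_img.1 h1
    have h3 : g * k * g⁻¹ ∈ P.K w := by
      have := conj_K_smul (g := g) hk
      rwa [hgx] at this
    have h4 : P.toPerm y ⟨g * k * g⁻¹, K_le_S_nb (P.symm hyw) h3⟩ = σ := by
      have h5 : (⟨g * k * g⁻¹, K_le_S_nb (P.symm hyw) h3⟩ : P.S y) = ⟨g, hgy⟩ * ⟨k, hky⟩ * ⟨g, hgy⟩⁻¹ := rfl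
      rw [h5, map_mul, map_mul, map_inv, ← hγ, h2]
      group
    rw [← h4]
    exact toPerm_mem h3 _
  -- the commutator
  obtain ⟨α, β, hα, hαw, hβ, hβw, hord⟩ := exists_comm hcard5 (⟨x, hyx⟩ : {w : V // P.adj y w}) ⟨w, hyw⟩
  obtain ⟨r1, hr1, hr1y, h1⟩ := mem_img.1 (hfull (show α ∈ stabilizer _ _ from hα))
  obtain ⟨r2, hr2, hr2y, h2⟩ := mem_img.1 (hfull (show β ∈ stabilizer _ _ from hβ))
  obtain ⟨t1, ht1, ht1y, h3⟩ := mem_img.1 (hfullw α hαw)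
  have hr1w : r1 ∈ P.S w := by
    rw [← h1] at hαw
    exact congrArg Subtype.val hαw
  have hr2w : r2 ∈ P.S w := by
    rw [← h2] at hβw
    exact congrArg Subtype.val hβw
  have hz : t1⁻¹ * r1 ∈ P.K y := by
    have h4 : P.toPerm y (⟨t1, ht1y⟩⁻¹ * ⟨r1, hr1y⟩) = 1 := by
      rw [map_mul, map_inv, h3, h1, inv_mul_cancel]
    exact (toPerm_eq_one _).1 h4
  have h4 := comm_mem hxy hyw hc1 hr1 hr2 hr1w hr2w ht1 hz
  have h5 : 3 ∣ Nat.card ↥(P.K x ⊓ P.K w) := by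
    have h6 : r1 * r2 * r1⁻¹ * r2⁻¹ ∈ P.S y :=
      mul_mem (mul_mem (mul_mem hr1y hr2y) (inv_mem hr1y)) (inv_mem hr2y)
    have h7 : P.toPerm y ⟨(r1 * r2 * r1⁻¹ * r2⁻¹) ^ 2 ^ c1, pow_mem h6 _⟩ = (α * β * α⁻¹ * β⁻¹) ^ 2 ^ c1 := by
      have h8 : (⟨(r1 * r2 * r1⁻¹ * r2⁻¹) ^ 2 ^ c1, pow_mem h6 _⟩ : P.S y) =
          (⟨r1, hr1y⟩ * ⟨r2, hr2y⟩ * ⟨r1, hr1y⟩⁻¹ * ⟨r2, hr2y⟩⁻¹) ^ 2 ^ c1 := rfl
      rw [h8, map_pow, map_mul, map_mul, map_mul, map_inv, map_inv, h1, h2]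
    have h8 : orderOf ((α * β * α⁻¹ * β⁻¹) ^ 2 ^ c1) = 3 := by
      rw [← hord]
      apply Nat.Coprime.orderOf_pow
      rw [hord]
      exact Nat.Coprime.pow_right _ (by norm_num)
    have h9 : orderOf ((α * β * α⁻¹ * β⁻¹) ^ 2 ^ c1) ∣ orderOf ((r1 * r2 * r1⁻¹ * r2⁻¹) ^ 2 ^ c1) := by
      rw [← h7]
      refine (orderOf_map_dvd _ _).trans ?_
      rw [← orderOf_coe]
    rw [h8] at h9
    refine h9.trans ?_
    have h10 := orderOf_dvd_natCard (⟨_, h4⟩ : ↥(P.K x ⊓ P.K w))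
    rwa [← orderOf_coe] at h10
  -- counting
  have h6 := F.count_main (r := 3) (i := 1) (x' := x') Nat.prime_three hp (by omega) (by rw [hp1]; exact hx')
  rw [hp1, show 1 + 2 = 3 from rfl, hp3, hi x' hx', Nat.factorization_one] at h6
  have hs0 : P.q (P.tp x) ≠ 0 := by
    have := P.two_le (P.tp x)
    omega
  have f1 : 1 ≤ (P.q (P.tp x)).factorization 3 := Nat.prime_three.factorization_pos_of_dvd hs0 hs3
  have f2 : 1 ≤ (Nat.card ↥(P.K x ⊓ P.K w)).factorization 3 :=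
    Nat.prime_three.factorization_pos_of_dvd Nat.card_pos.ne' h5
  have f3 : (Nat.card ↥(P.K x ⊓ P.K w ⊓ P.H p)).factorization 3 = 0 := by
    apply Nat.factorization_eq_zero_of_not_dvd
    intro h
    have h7 : 3 ∣ 2 ^ c := by
      rw [← hc]
      exact h.trans (card_dvd_of_le (inf_le_inf_right _ inf_le_left))
    exact absurd (Nat.prime_three.dvd_of_dvd_pow h7) (by norm_num)
  have f4 : (Nat.card ↥(P.K x ⊓ P.S w)).factorization 3 ≤ 1 := by
    by_contra hcon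
    push Not at hcon
    apply hs9 c
    rw [← hKx]
    refine dvd_trans ?_ (card_dvd_of_le (inf_le_left : P.K x ⊓ P.S w ≤ P.K x))
    have h7 : 3 ^ 2 ∣ Nat.card ↥(P.K x ⊓ P.S w) :=
      (pow_dvd_pow 3 hcon).trans (Nat.ordProj_dvd _ 3)
    simpa using h7
  simp only [Finsupp.coe_zero, Pi.zero_apply] at h6
  omega

/-! ### numerical conditions -/

theorem num4 {s : ℕ} (h2 : 2 ≤ s) (h16 : s ≤ 16) (hd : (s + 4) ∣ 2 * s * 4 * (1 + s) * (1 + 4)) :
    (∃ k, s = 2 ^ k) ∨ s = 6 ∨ s = 11 ∨ s = 12 := by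
  interval_cases s
  · exact Or.inl ⟨1, rfl⟩
  · exact absurd hd (by decide)
  · exact Or.inl ⟨2, rfl⟩
  · exact absurd hd (by decide)
  · exact Or.inr (Or.inl rfl)
  · exact absurd hd (by decide)
  · exact Or.inl ⟨3, rfl⟩
  · exact absurd hd (by decide)
  · exact absurd hd (by decide)
  · exact Or.inr (Or.inr (Or.inl rfl))
  · exact Or.inr (Or.inr (Or.inr rfl))
  · exact absurd hd (by decide)
  · exact absurd hd (by decide)
  · exact absurd hd (by decide)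
  · exact Or.inl ⟨4, rfl⟩

theorem num6 {s g : ℕ} (h2 : 2 ≤ s) (h64 : s ≤ 64) (hg : s * 4 = g ^ 2)
    (h1 : (s + 4 + g) ∣ g ^ 2 * (1 + s) * (1 + 4) * (1 + g ^ 2 + g))
    (h3 : (s + 4 - g) ∣ g ^ 2 * (1 + s) * (1 + 4) * (1 + g ^ 2 - g)) : ∃ k, s = 2 ^ k := by
  have hg16 : g ≤ 16 := by
    by_contra hcon
    have : 17 ^ 2 ≤ g ^ 2 := Nat.pow_le_pow_left (by omega) 2
    omega
  interval_cases g
  · omega
  · omega
  · omega
  · omega
  · exact ⟨2, by omega⟩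
  · omega
  · have : s = 9 := by omega
    subst this
    exact absurd h1 (by decide)
  · omega
  · exact ⟨4, by omega⟩
  · omega
  · have : s = 25 := by omega
    subst this
    exact absurd h3 (by decide)
  · omega
  · have : s = 36 := by omega
    subst this
    exact absurd h1 (by decide)
  · omega
  · have : s = 49 := by omega
    subst this
    exact absurd h1 (by decide)
  · omega
  · exact ⟨6, by omega⟩

theorem num8 {s h : ℕ} (h2 : 2 ≤ s) (h16 : s ≤ 16) (hh : 2 * s * 4 = h ^ 2) : ∃ k, s = 2 ^ k := by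
  have hh12 : h ≤ 11 := by
    by_contra hcon
    have : 12 ^ 2 ≤ h ^ 2 := Nat.pow_le_pow_left (by omega) 2
    omega
  interval_cases h
  all_goals first
    | omega
    | exact ⟨1, by omega⟩
    | exact ⟨3, by omega⟩

theorem num_cases (N : Num P) {x y : V} (hxy : P.adj x y) (ht : P.q (P.tp y) = 4) :
    (∃ k, P.q (P.tp x) = 2 ^ k) ∨
      (P.n = 4 ∧ (P.q (P.tp x) = 6 ∨ P.q (P.tp x) = 11 ∨ P.q (P.tp x) = 12)) := by
  have htp := tp_not hxy
  have h2 := P.two_le (P.tp x)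
  rcases P.hn with hn | hn | hn
  · have h1 := N.hig48 (Or.inl hn) (P.tp x)
    have h3 := N.fh4 hn
    have h4 : (P.q (P.tp x) + 4) ∣ 2 * P.q (P.tp x) * 4 * (1 + P.q (P.tp x)) * (1 + 4) := by
      cases hty : P.tp y
      · rw [hty] at htp ht
        rw [htp, Bool.not_false, ← ht]
        exact h3
      · rw [hty] at htp ht
        rw [htp, Bool.not_true, ← ht]
        convert h3 using 1
        · ring
        · ring
    have h5 : P.q (P.tp x) ≤ 16 := by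
      rw [htp, Bool.not_not, ht, ← htp] at h1
      simpa using h1
    rcases num4 h2 h5 h4 with h6 | h6
    · exact Or.inl h6
    · exact Or.inr ⟨hn, h6⟩
  · left
    have h1 := N.hig6 hn (P.tp x)
    obtain ⟨g, h3, h4, h5⟩ := N.fh6 hn
    have h6 : P.q (P.tp x) ≤ 64 := by
      rw [htp, Bool.not_not, ht, ← htp] at h1
      simpa using h1
    cases hty : P.tp y
    · rw [hty] at htp ht
      rw [Bool.not_false] at htp
      rw [ht, ← htp] at h3 h4 h5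
      exact num6 h2 h6 h3 h4 h5
    · rw [hty] at htp ht
      rw [Bool.not_true] at htp
      rw [ht, ← htp] at h3 h4 h5
      refine num6 h2 h6 ((mul_comm _ _).trans h3) ?_ ?_
      · convert h4 using 1
        · ring
        · ring
      · convert h5 using 1
        · rw [add_comm]
        · rw [mul_right_comm (g ^ 2)]
  · left
    have h1 := N.hig48 (Or.inr hn) (P.tp x)
    obtain ⟨h, h3, -⟩ := N.fh8 hn
    have h6 : P.q (P.tp x) ≤ 16 := by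
      rw [htp, Bool.not_not, ht, ← htp] at h1
      simpa using h1
    cases hty : P.tp y
    · rw [hty] at htp ht
      rw [Bool.not_false] at htp
      rw [ht, ← htp] at h3
      exact num8 h2 h6 h3
    · rw [hty] at htp ht
      rw [Bool.not_true] at htp
      rw [ht, ← htp] at h3
      refine num8 (h := h) h2 h6 ?_
      rw [← h3]
      ring

/-- E4, from the table `StTab1a` of 2-transitive groups -/
theorem e4_of_tab (hT : StTab1a.{v}) : StE4.{u, v} := by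
  intro G _ _ V _ _ P F N hA x y y' hxy ho ht hL hL'
  rcases num_cases N hxy ht with h | ⟨hn, h | h | h⟩
  · exact h
  · exfalso
    refine main_contra F hA hn hxy ho ht hL hL' (by rw [h]; norm_num) ?_ (fun x' hx' => idx_seven F hA hxy h hx')
    intro c hc
    rw [h] at hc
    have h1 : 3 * 3 ∣ 3 * (2 ^ 5 * 2 ^ c) := by
      convert hc using 1
      ring
    have h2 := Nat.dvd_of_mul_dvd_mul_left (by norm_num) h1
    rw [← pow_add] at h2
    exact absurd (Nat.prime_three.dvd_of_dvd_pow h2) (by norm_num)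
  · exfalso
    have := s_even F hA hxy
    omega
  · exfalso
    refine main_contra F hA hn hxy ho ht hL hL' (by rw [h]; norm_num) ?_ (fun x' hx' => idx_thirteen hT F hA hxy h hx')
    intro c hc
    rw [h] at hc
    have h1 : 3 * 3 ∣ 3 * (2 ^ 6 * 2 ^ c) := by
      convert hc using 1
      ring
    have h2 := Nat.dvd_of_mul_dvd_mul_left (by norm_num) h1
    rw [← pow_add] at h2
    exact absurd (Nat.prime_three.dvd_of_dvd_pow h2) (by norm_num)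

end Cfsg.Agent.H592.E4
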