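import Cfsg.Agent.H592.E4.Main
import Cfsg.Agent.H361.Tits.Tab1a

/-!
# S3414 [E4] (helper592): `st_e4`
-/

set_option autoImplicit false

namespace Cfsg.Agent.H592.E4

open Cfsg.Agent.H873.Tits

universe u v

/-- **E4.** -/
theorem st_e4 : StE4.{u, v} := e4_of_tab.{u, v} Cfsg.Agent.H361.Tits.st_tab1a.{v}

end Cfsg.Agent.H592.E4
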